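import Groth.Agent.GrpSchLib.Cartier
import Groth.Agent.GrpSchLib.SmoothReduced
import Groth.Prelude.Def_W4bk4git07Quot
import Mathlib.CategoryTheory.Monoidal.Cartesian.Grp
import Mathlib.AlgebraicGeometry.Fiber
import Mathlib.AlgebraicGeometry.Morphisms.UniversallyInjective
import Mathlib.AlgebraicGeometry.Morphisms.Etale

/-!
# Fibres of the stabiliser of an action are group schemes
-/

set_option backward.isDefEq.respectTransparency false
set_option backward.isDefEq.respectTransparency.types false

universe u

open CategoryTheory CategoryTheory.Limits MonoidalCategory CartesianMonoidalCategory MonObj GrpObj AlgebraicGeometry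
  Opposite

namespace Groth.Agent.EqIntLib

variable {S : Scheme.{u}} {G X : Over S} [GrpObj G] (a : AlgGrp.Action G X)

/-- The stabiliser of the universal point. -/
noncomputable abbrev stabHom : pullback (GIT.psi a (𝟙 X)).left (lift (𝟙 X) (𝟙 X)).left ⟶ X.left :=
  pullback.snd _ _

theorem fst_comp_snd :
    pullback.fst (GIT.psi a (𝟙 X)).left (lift (𝟙 X) (𝟙 X)).left ≫ (snd G X).left = stabHom a := by
  have h := congrArg (fun t => t ≫ (snd X X).left) (pullback.condition (f := (GIT.psi a (𝟙 X)).left)
    (g := (lift (𝟙 X) (𝟙 X)).left))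
  simp only [Category.assoc] at h
  rw [← Over.comp_left, ← Over.comp_left] at h
  have e1 : GIT.psi a (𝟙 X) ≫ snd X X = snd G X := lift_snd _ _
  rw [e1, lift_snd] at h
  exact h.trans (Category.comp_id _)

/-- The points of `G` fixing a given point form a subgroup. -/
def fixSubgroup {T : Over S} (t : T ⟶ X) : Subgroup (T ⟶ G) where
  carrier := {g | lift g t ≫ a.act = t}
  one_mem' := by
    show lift 1 t ≫ a.act = t
    rw [Hom.one_def, show lift (toUnit T ≫ η[G]) t = lift (toUnit T) t ≫ (η[G] ▷ X) by rw [lift_whiskerRight],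
      Category.assoc, a.one_act]
    simp
  mul_mem' := by
    intro g g' hg hg'
    show lift (g * g') t ≫ a.act = t
    rw [Hom.mul_def, show lift (lift g g' ≫ μ[G]) t = lift (lift g g') t ≫ (μ[G] ▷ X) by rw [lift_whiskerRight],
      Category.assoc, a.mul_act]
    simp only [lift_lift_associator_hom_assoc, lift_whiskerLeft_assoc]
    rw [show lift g' t ≫ a.act = t from hg', show lift g t ≫ a.act = t from hg]
  inv_mem' := by
    intro g hg
    have h1 : lift (g⁻¹ * g) t ≫ a.act = t := by
      rw [inv_mul_cancel, Hom.one_def, show lift (toUnit T ≫ η[G]) t = lift (toUnit T) t ≫ (η[G] ▷ X) by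
        rw [lift_whiskerRight], Category.assoc, a.one_act]
      simp
    rw [Hom.mul_def, show lift (lift g⁻¹ g ≫ μ[G]) t = lift (lift g⁻¹ g) t ≫ (μ[G] ▷ X) by rw [lift_whiskerRight],
      Category.assoc, a.mul_act] at h1
    simp only [lift_lift_associator_hom_assoc, lift_whiskerLeft_assoc] at h1
    rw [show lift g t ≫ a.act = t from hg] at h1
    exact h1

theorem mem_fixSubgroup {T : Over S} (t : T ⟶ X) (g : T ⟶ G) : g ∈ fixSubgroup a t ↔ lift g t ≫ a.act = t := Iff.rfl

/-- Maps into the stabiliser over a given point are the elements fixing it. -/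
noncomputable def stabPointsEquiv {T : Over S} (t : T ⟶ X) :
    {w : T.left ⟶ pullback (GIT.psi a (𝟙 X)).left (lift (𝟙 X) (𝟙 X)).left // w ≫ stabHom a = t.left} ≃
      fixSubgroup a t where
  toFun w :=
    let σ : T ⟶ G ⊗ X := Over.homMk (w.1 ≫ pullback.fst _ _) (by
      rw [← Over.w (snd G X), Category.assoc, ← Category.assoc (pullback.fst _ _), fst_comp_snd, ← Category.assoc,
        w.2, Over.w])
    ⟨σ ≫ fst G X, by
      have hsnd : σ ≫ snd G X = t := Over.OverMorphism.ext (by
        show (w.1 ≫ pullback.fst _ _) ≫ (snd G X).left = t.left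
        rw [Category.assoc, fst_comp_snd, w.2])
      have e : σ ≫ GIT.psi a (𝟙 X) = t ≫ lift (𝟙 X) (𝟙 X) := Over.OverMorphism.ext (by
        show (w.1 ≫ pullback.fst _ _) ≫ (GIT.psi a (𝟙 X)).left = t.left ≫ _
        rw [Category.assoc, pullback.condition, ← Category.assoc, w.2])
      have e1 := congrArg (fun z => z ≫ fst X X) e
      simp [GIT.psi] at e1
      rw [mem_fixSubgroup, show lift (σ ≫ fst G X) t = σ by rw [← hsnd, lift_comp_fst_snd]]
      exact e1⟩
  invFun g := ⟨pullback.lift (lift g.1 t).left t.left (by
      rw [← Over.comp_left, ← Over.comp_left]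
      congr 1
      apply CartesianMonoidalCategory.hom_ext
      · simp [GIT.psi, (mem_fixSubgroup a t g.1).mp g.2]
      · simp [GIT.psi]), pullback.lift_snd _ _ _⟩
  left_inv w := by
    refine Subtype.ext (pullback.hom_ext ?_ ?_)
    · rw [pullback.lift_fst]
      let σ : T ⟶ G ⊗ X := Over.homMk (w.1 ≫ pullback.fst _ _) (by
        rw [← Over.w (snd G X), Category.assoc, ← Category.assoc (pullback.fst _ _), fst_comp_snd, ← Category.assoc,
          w.2, Over.w])
      have hsnd : σ ≫ snd G X = t := Over.OverMorphism.ext (by
        show (w.1 ≫ pullback.fst _ _) ≫ (snd G X).left = t.left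
        rw [Category.assoc, fst_comp_snd, w.2])
      show (lift (σ ≫ fst G X) t).left = σ.left
      rw [← hsnd, lift_comp_fst_snd]
    · rw [pullback.lift_snd]; exact w.2.symm
  right_inv g := by
    apply Subtype.ext
    refine Over.OverMorphism.ext ?_
    show (pullback.lift (lift g.1 t).left t.left _ ≫ pullback.fst _ _) ≫ (fst G X).left = g.1.left
    rw [pullback.lift_fst, ← Over.comp_left, lift_fst]

variable {K : Scheme.{u}} (j : K ⟶ X.left)

/-- An object over `K` seen over the base. -/
noncomputable abbrev down (T : Over K) : Over S := Over.mk (T.hom ≫ j ≫ X.hom)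

/-- The point of `X` attached to an object over `K`. -/
noncomputable abbrev downPt (T : Over K) : down j T ⟶ X := Over.homMk (T.hom ≫ j) (Category.assoc _ _ _)

/-- Functoriality. -/
noncomputable abbrev downMap {T T' : Over K} (f : T' ⟶ T) : down j T' ⟶ down j T :=
  Over.homMk f.left (by
    show f.left ≫ T.hom ≫ j ≫ X.hom = T'.hom ≫ j ≫ X.hom
    rw [← Category.assoc, Over.w f])

theorem downMap_downPt {T T' : Over K} (f : T' ⟶ T) : downMap j f ≫ downPt j T = downPt j T' := by
  apply Over.OverMorphism.ext
  show f.left ≫ T.hom ≫ j = T'.hom ≫ j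
  rw [← Category.assoc, Over.w f]

/-- The functor of fixing elements over points of `K`. -/
noncomputable def fixFunctor : (Over K)ᵒᵖ ⥤ GrpCat.{u} where
  obj T := GrpCat.of (fixSubgroup a (downPt j T.unop))
  map {T T'} f := GrpCat.ofHom
    { toFun := fun g => ⟨downMap j f.unop ≫ g.1, by
        rw [mem_fixSubgroup, ← downMap_downPt j f.unop, ← comp_lift, Category.assoc,
          (mem_fixSubgroup a _ _).mp g.2]⟩
      map_one' := Subtype.ext (MonObj.comp_one _)
      map_mul' := fun g g' => Subtype.ext (MonObj.comp_mul _ _ _) }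
  map_id T := by
    refine GrpCat.hom_ext (MonoidHom.ext fun g => Subtype.ext ?_)
    exact (congrArg (· ≫ g.1) (show downMap j (𝟙 T.unop) = 𝟙 _ from Over.OverMorphism.ext rfl)).trans (Category.id_comp _)
  map_comp {T T' T''} f f' := by
    refine GrpCat.hom_ext (MonoidHom.ext fun g => Subtype.ext ?_)
    exact (congrArg (· ≫ g.1) (show downMap j (f'.unop ≫ f.unop) = downMap j f'.unop ≫ downMap j f.unop from
      Over.OverMorphism.ext rfl)).trans (Category.assoc _ _ _)

/-- The fibre of the stabiliser represents it. -/
noncomputable def fibreRepresents :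
    (fixFunctor a j ⋙ forget _).RepresentableBy (Over.mk (pullback.snd (stabHom a) j)) where
  homEquiv {T} :=
    ({ toFun := fun v => ⟨v.left ≫ pullback.fst (stabHom a) j, by
          rw [Category.assoc, pullback.condition, ← Category.assoc]
          exact congrArg (· ≫ j) (Over.w v)⟩
       invFun := fun w => Over.homMk (pullback.lift w.1 T.hom w.2) (pullback.lift_snd _ _ _)
       left_inv := fun v => by
         apply Over.OverMorphism.ext
         apply pullback.hom_ext
         · exact pullback.lift_fst _ _ _
         · exact (pullback.lift_snd _ _ _).trans (Over.w v).symm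
       right_inv := fun w => Subtype.ext (pullback.lift_fst _ _ _) } :
      (T ⟶ Over.mk (pullback.snd (stabHom a) j)) ≃
        {w : T.left ⟶ pullback (GIT.psi a (𝟙 X)).left (lift (𝟙 X) (𝟙 X)).left // w ≫ stabHom a = (downPt j T).left}).trans
      (stabPointsEquiv a (downPt j T))
  homEquiv_comp {T T'} f g := by
    apply Subtype.ext
    apply Over.OverMorphism.ext
    show (((f ≫ g).left ≫ pullback.fst (stabHom a) j) ≫ pullback.fst _ _) ≫ (fst G X).left =
      f.left ≫ ((g.left ≫ pullback.fst (stabHom a) j) ≫ pullback.fst _ _) ≫ (fst G X).left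
    simp

/-- The fibre of the stabiliser is a group scheme. -/
@[implicit_reducible] noncomputable def fibreGrpObj : GrpObj (Over.mk (pullback.snd (stabHom a) j)) :=
  GrpObj.ofRepresentableBy _ (fixFunctor a j) (fibreRepresents a j)

theorem exists_section : ∃ s : K ⟶ pullback (stabHom a) j, s ≫ pullback.snd (stabHom a) j = 𝟙 K :=
  ⟨((fibreRepresents a j).homEquiv (X := Over.mk (𝟙 K))).symm ⟨1, Subgroup.one_mem _⟩ |>.left,
    Over.w ((fibreRepresents a j).homEquiv (X := Over.mk (𝟙 K)) |>.symm ⟨1, Subgroup.one_mem _⟩)⟩

/-- A universally injective morphism to a field with a section and reduced source, or formally unramified, is an isomorphism. -/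
theorem isIso_of_section {F : Scheme.{u}} {K : Type u} [Field K] (p : F ⟶ Spec (CommRingCat.of K))
    [LocallyOfFiniteType p] [UniversallyInjective p] (s : Spec (CommRingCat.of K) ⟶ F) (hs : s ≫ p = 𝟙 _)
    (h : IsReduced F ∨ FormallyUnramified p) : IsIso p := by
  haveI : Subsingleton F := ⟨fun x y => (Scheme.Hom.injective p) (Subsingleton.elim (α := Spec (CommRingCat.of K)) _ _)⟩
  haveI : Surjective s := ⟨fun x => ⟨p.base x, Subsingleton.elim _ _⟩⟩
  have : IsIso s := by
    rcases h with hred | hunr
    · haveI := hred
      haveI : Mono s := mono_of_mono_fac hs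
      haveI : IsSeparated p := by
        rw [isSeparated_iff]
        haveI := (UniversallyInjective.iff_diagonal p).mp inferInstance
        exact IsClosedImmersion.of_isPreimmersion _
          (by rw [(pullback.diagonal p).surjective.range_eq]; exact isClosed_univ)
      haveI : IsClosedImmersion (s ≫ p) := by rw [hs]; infer_instance
      haveI : IsClosedImmersion s := IsClosedImmersion.of_comp s p
      exact isIso_of_isClosedImmersion_of_surjective s
    · haveI := hunr
      haveI : (@IsOpenImmersion).HasOfPostcompProperty (MorphismProperty.diagonal @IsOpenImmersion) :=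
        MorphismProperty.hasOfPostcompProperty_iff_le_diagonal.mpr le_rfl
      haveI : IsOpenImmersion s := MorphismProperty.of_postcomp (W := @IsOpenImmersion)
        (W' := MorphismProperty.diagonal @IsOpenImmersion) s p (inferInstanceAs (IsOpenImmersion (pullback.diagonal p)))
        (by rw [hs]; infer_instance)
      exact (isIso_iff_isOpenImmersion_and_epi_base _).mpr ⟨inferInstance, (TopCat.epi_iff_surjective _).mpr s.surjective⟩
  haveI := this
  have hp : p = inv s := by rw [← cancel_epi s, hs, IsIso.hom_inv_id]
  rw [hp]; infer_instance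

end Groth.Agent.EqIntLib
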